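import Groth.Agent.Et18.FlatTrace.Compose

/-!
# Compatibility of the trace with base change and composition
-/

set_option autoImplicit false
set_option backward.isDefEq.respectTransparency.types false
set_option backward.isDefEq.respectTransparency false
set_option linter.unusedSectionVars false
set_option linter.unusedSimpArgs false

universe u

open CategoryTheory CategoryTheory.Limits AlgebraicGeometry Opposite
open Groth.Agent.Et18.H0Lift

namespace Groth.Agent.Et18.FlatTrace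

variable {X S : Scheme.{u}}

theorem stalk_pull_map {S' : Scheme.{u}} (g : S' ⟶ S) {A B : EtCoh.Ab S} (φ : A ⟶ B) {K : Type u}
    [Field K] [IsSepClosed K] {η' : Spec (CommRingCat.of K) ⟶ S'} {η : Spec (CommRingCat.of K) ⟶ S}
    (ξ : FibrePts g η) (hη : ξ.1 = η') (x : (EtCoh.stalk η).obj A) :
    (EtCoh.stalk ξ.1).map ((EtCoh.pull g).map φ) (toPull g η ξ A x) =
      toPull g η ξ B ((EtCoh.stalk η).map φ x) := by
  obtain ⟨V, v, s, rfl⟩ := (Scheme.pointSmallEtale η).toPresheafFiber_jointly_surjective (P := A.obj) x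
  refine (congrArg _ (gm_unit g ξ A V v s).symm).trans ?_
  refine (gm_hom ((EtCoh.pull g).map φ) ξ.1 _ _ _).trans ?_
  refine Eq.trans ?_ (congrArg (toPull g η ξ B) (gm_hom φ η V v s).symm)
  refine Eq.trans ?_ (gm_unit g ξ B V v (φ.hom.app (op V) s))
  refine congrArg (gm _ ξ.1 _ _) ?_
  exact ConcreteCategory.congr_hom
    (congrArg (fun k => k.hom.app (op V)) ((EtCoh.pullPushAdj g).unit.naturality φ).symm) s

theorem stalk_map_comp3 {K : Type u} [Field K] [IsSepClosed K] (ξ : Spec (CommRingCat.of K) ⟶ S)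
    {A B C D : EtCoh.Ab S} (a : A ⟶ B) (b : B ⟶ C) (c : C ⟶ D) {x : (EtCoh.stalk ξ).obj A}
    {y : (EtCoh.stalk ξ).obj B} {z : (EtCoh.stalk ξ).obj C} {w : (EtCoh.stalk ξ).obj D}
    (h₁ : (EtCoh.stalk ξ).map a x = y) (h₂ : (EtCoh.stalk ξ).map b y = z)
    (h₃ : (EtCoh.stalk ξ).map c z = w) : (EtCoh.stalk ξ).map (a ≫ b ≫ c) x = w := by
  rw [Functor.map_comp, Functor.map_comp, ConcreteCategory.comp_apply, ConcreteCategory.comp_apply,
    h₁, h₂, h₃]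

theorem stalk_congr_aux {X' : Scheme.{u}} {k k' : X' ⟶ S} (hk : k = k') {F : EtCoh.Ab S} {K : Type u}
    [Field K] [IsSepClosed K] (ξ : Spec (CommRingCat.of K) ⟶ X') {η : Spec (CommRingCat.of K) ⟶ S}
    (a : ξ ≫ k = η) (b : ξ ≫ k' = η) (e : (EtCoh.stalk η).obj F) {A D : EtCoh.Ab X'}
    (p : A ⟶ (EtCoh.pull k).obj F) (q : (EtCoh.pull k').obj F ⟶ D) {x : (EtCoh.stalk ξ).obj A}
    {w : (EtCoh.stalk ξ).obj D} (h₁ : (EtCoh.stalk ξ).map p x = toPull k η ⟨ξ, a⟩ F e)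
    (h₃ : (EtCoh.stalk ξ).map q (toPull k' η ⟨ξ, b⟩ F e) = w) :
    (EtCoh.stalk ξ).map (p ≫ (EtCore.pullCongr hk).hom.app F ≫ q) x = w :=
  stalk_map_comp3 ξ p _ q h₁ (stalk_pullCongr hk F ξ a b e) h₃

/-- The stalk of `pullSquare` matches the two iterated comparisons. -/
theorem stalk_pullSquare {X' S' : Scheme.{u}} (f : X ⟶ S) (g : S' ⟶ S) (f' : X' ⟶ S')
    (g' : X' ⟶ X) (w : g' ≫ f = f' ≫ g) (F : EtCoh.Ab S) {K : Type u} [Field K] [IsSepClosed K]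
    {η' : Spec (CommRingCat.of K) ⟶ S'} (ξ' : FibrePts f' η') (e : (EtCoh.stalk (η' ≫ g)).obj F) :
    (EtCoh.stalk ξ'.1).map ((EtCore.pullComp g' f).inv.app F ≫ (EtCore.pullCongr w).hom.app F ≫ (EtCore.pullComp f' g).hom.app F)
        (toPull g' (fibreMap f g f' g' w η' ξ').1 ⟨ξ'.1, rfl⟩ ((EtCoh.pull f).obj F)
          (toPull f (η' ≫ g) (fibreMap f g f' g' w η' ξ') F e)) =
      toPull f' η' ξ' ((EtCoh.pull g).obj F) (toPull g (η' ≫ g) ⟨η', rfl⟩ F e) := by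
  have hc1 : ξ'.1 ≫ g' ≫ f = η' ≫ g := by rw [w, ← Category.assoc, ξ'.2]
  have hc2 : ξ'.1 ≫ f' ≫ g = η' ≫ g := by rw [← Category.assoc, ξ'.2]
  exact stalk_congr_aux w ξ'.1 hc1 hc2 e _ _
    (stalk_pullComp_inv g' f F ξ'.1 (η₁ := (fibreMap f g f' g' w η' ξ').1) rfl
      (fibreMap f g f' g' w η' ξ').2 hc1 e)
    (stalk_pullComp f' g F ξ'.1 ξ'.2 rfl hc2 e)

theorem cmp_baseChange {X' S' : Scheme.{u}} (f : X ⟶ S) (g : S' ⟶ S) (f' : X' ⟶ S') (g' : X' ⟶ X)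
    (w : g' ≫ f = f' ≫ g) [IsFinite f] [Flat f] [LocallyOfFinitePresentation f]
    [IsFinite f'] [Flat f'] [LocallyOfFinitePresentation f'] (F : EtCoh.Ab S) {K : Type u} [Field K]
    [IsSepClosed K] {η' : Spec (CommRingCat.of K) ⟶ S'} (ξ' : FibrePts f' η')
    (x₀ : (EtCoh.stalk (η' ≫ g)).obj ((EtCoh.push f).obj ((EtCoh.pull f).obj F))) :
    cmp f' η' ((EtCoh.pull g).obj F) ξ' ((EtCoh.stalk η').map ((EtCoh.push f').map ((EtCore.pullComp g' f).inv.app F ≫ (EtCore.pullCongr w).hom.app F ≫ (EtCore.pullComp f' g).hom.app F))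
        ((EtCoh.stalk η').map (EtCoh.baseChange0 f g f' g' w ((EtCoh.pull f).obj F))
          (toPull g (η' ≫ g) ⟨η', rfl⟩ ((EtCoh.push f).obj ((EtCoh.pull f).obj F)) x₀))) =
      toPull g (η' ≫ g) ⟨η', rfl⟩ F (cmp f (η' ≫ g) F (fibreMap f g f' g' w η' ξ') x₀) := by
  refine (bijective_toPull f' ξ' ((EtCoh.pull g).obj F)).1 ((toPull_cmp' f' _ ξ' _).trans ?_)
  let G := (EtCoh.pull f).obj F
  let x₁ := (EtCoh.stalk η').map (EtCoh.baseChange0 f g f' g' w G)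
    (toPull g (η' ≫ g) ⟨η', rfl⟩ ((EtCoh.push f).obj G) x₀)
  have hn := ConcreteCategory.congr_hom
    ((fibreNat f' η' AddCommGrpCat.{u + 1} ξ').naturality ((EtCore.pullComp g' f).inv.app F ≫ (EtCore.pullCongr w).hom.app F ≫ (EtCore.pullComp f' g).hom.app F)) x₁
  refine hn.trans ?_
  have hb := ConcreteCategory.congr_hom (baseChange0_fibreNat f g f' g' w η' G ξ') x₀
  refine (congrArg ((EtCoh.stalk ξ'.1).map ((EtCore.pullComp g' f).inv.app F ≫ (EtCore.pullCongr w).hom.app F ≫ (EtCore.pullComp f' g).hom.app F)) hb).trans ?_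
  let ξ := fibreMap f g f' g' w η' ξ'
  refine (congrArg (fun z => (EtCoh.stalk ξ'.1).map ((EtCore.pullComp g' f).inv.app F ≫ (EtCore.pullCongr w).hom.app F ≫ (EtCore.pullComp f' g).hom.app F)
    (toPull g' ξ.1 ⟨ξ'.1, rfl⟩ G z)) (toPull_cmp' f F ξ x₀).symm).trans ?_
  exact stalk_pullSquare f g f' g' w F ξ' _

theorem trace_baseChange {X' S' : Scheme.{u}} (f : X ⟶ S) (g : S' ⟶ S) (f' : X' ⟶ S') (g' : X' ⟶ X)
    (hc : IsPullback g' f' f g) [IsFinite f] [Flat f] [LocallyOfFinitePresentation f]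
    [IsFinite f'] [Flat f'] [LocallyOfFinitePresentation f'] (F : EtCoh.Ab S) :
    EtCoh.baseChange0 f g f' g' hc.w ((EtCoh.pull f).obj F) ≫
        (EtCoh.push f').map ((EtCore.pullComp g' f).inv.app F ≫ (EtCore.pullCongr hc.w).hom.app F ≫ (EtCore.pullComp f' g).hom.app F) ≫ (trace f').app ((EtCoh.pull g).obj F) =
      (EtCoh.pull g).map ((trace f).app F) := by
  refine hom_ext_stalks _ _ fun K _ _ η' x => ?_
  let G := (EtCoh.pull f).obj F
  obtain ⟨x₀, rfl⟩ := (bijective_toPull g (⟨η', rfl⟩ : FibrePts g (η' ≫ g)) ((EtCoh.push f).obj G)).2 x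
  refine Eq.trans ?_ (stalk_pull_map g ((trace f).app F) (⟨η', rfl⟩ : FibrePts g (η' ≫ g)) rfl x₀).symm
  refine Eq.trans ?_ (congrArg (toPull g (η' ≫ g) ⟨η', rfl⟩ F) (stalk_map_trApp f F (η' ≫ g) x₀)).symm
  rw [Functor.map_comp, Functor.map_comp, ConcreteCategory.comp_apply, ConcreteCategory.comp_apply]
  refine (stalk_map_trApp f' ((EtCoh.pull g).obj F) η' _).trans ?_
  simp only [trStalk, AddMonoidHom.coe_finsetSum, Finset.sum_apply, map_sum]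
  refine Fintype.sum_bijective (fibreMap f g f' g' hc.w η') (fibreMap_bijective f g f' g' η' hc) _ _ fun ξ' => ?_
  refine Eq.trans ?_ (map_nsmul (toPull g (η' ≫ g) ⟨η', rfl⟩ F).hom _ _).symm
  exact congrArg₂ (fun (n : ℕ) (z : (EtCoh.stalk η').obj ((EtCoh.pull g).obj F)) => n • z)
    (mult_baseChange f hc ξ' (η := η' ≫ g) rfl) (cmp_baseChange f g f' g' hc.w F ξ' x₀)

/-- The lifts along a composite. -/
noncomputable def fibSigma {Y : Scheme.{u}} (h : X ⟶ Y) (g : Y ⟶ S) {Ω : Type u} [Field Ω]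
    (η : Spec (CommRingCat.of Ω) ⟶ S) : (Σ ξ₁ : FibrePts g η, FibrePts h ξ₁.1) ≃ FibrePts (h ≫ g) η where
  toFun p := ⟨p.2.1, by rw [← Category.assoc, p.2.2, p.1.2]⟩
  invFun ξ := ⟨⟨ξ.1 ≫ h, (Category.assoc _ _ _).trans ξ.2⟩, ⟨ξ.1, rfl⟩⟩
  left_inv := fun ⟨⟨a, ha⟩, ⟨b, hb⟩⟩ => by
    obtain rfl : b ≫ h = a := hb
    rfl
  right_inv ξ := rfl

theorem cmp_compMap {Y : Scheme.{u}} (h : X ⟶ Y) (g : Y ⟶ S) [IsFinite h] [Flat h]
    [LocallyOfFinitePresentation h] [IsFinite g] [Flat g] [LocallyOfFinitePresentation g]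
    [IsFinite (h ≫ g)] [Flat (h ≫ g)] [LocallyOfFinitePresentation (h ≫ g)] (F : EtCoh.Ab S) ⦃K : Type u⦄ [Field K]
    [IsAlgClosed K] (η : Spec (CommRingCat.of K) ⟶ S) (ξ₁ : FibrePts g η)
    (x : (EtCoh.stalk η).obj ((EtCoh.push (h ≫ g)).obj ((EtCoh.pull (h ≫ g)).obj F))) :
    cmp g η F ξ₁ ((EtCoh.stalk η).map ((EtCoh.push (h ≫ g)).map ((EtCore.pullComp h g).hom.app F) ≫ (EtCoh.pushComp g h).inv.app ((EtCoh.pull h).obj ((EtCoh.pull g).obj F)) ≫ (EtCoh.push g).map ((trace h).app ((EtCoh.pull g).obj F))) x) =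
      ∑ ξ₂ : FibrePts h ξ₁.1, mult h ξ₂ • cmp (h ≫ g) η F (fibSigma h g η ⟨ξ₁, ξ₂⟩) x := by
  refine (bijective_toPull g ξ₁ F).1 ((toPull_cmp' g F ξ₁ _).trans ?_)
  let F₁ := (EtCoh.pull g).obj F
  simp only [Functor.map_comp, ConcreteCategory.comp_apply]
  let y := (EtCoh.stalk η).map ((EtCoh.pushComp g h).inv.app ((EtCoh.pull h).obj F₁))
    ((EtCoh.stalk η).map ((EtCoh.push (h ≫ g)).map ((EtCore.pullComp h g).hom.app F)) x)
  refine (ConcreteCategory.congr_hom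
    ((fibreNat g η AddCommGrpCat.{u + 1} ξ₁).naturality ((trace h).app F₁)) y).trans ?_
  refine (stalk_map_trApp h F₁ ξ₁.1 _).trans ?_
  simp only [trStalk, AddMonoidHom.coe_finsetSum, Finset.sum_apply, map_sum]
  refine Finset.sum_congr rfl fun ξ₂ _ => ?_
  refine Eq.trans ?_ (map_nsmul (toPull g η ξ₁ F).hom _ _).symm
  refine congrArg (fun z : (EtCoh.stalk ξ₁.1).obj ((EtCoh.pull g).obj F) => mult h ξ₂ • z) ?_
  refine (bijective_toPull h ξ₂ F₁).1 ((toPull_cmp' h F₁ ξ₂ _).trans ?_)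
  let ξ := fibSigma h g η ⟨ξ₁, ξ₂⟩
  refine (fibreNat_comp h g ξ ξ₁ ξ₂.2 _ _).trans ?_
  refine (ConcreteCategory.congr_hom ((fibreNat (h ≫ g) η AddCommGrpCat.{u + 1} ξ).naturality
    ((EtCore.pullComp h g).hom.app F)) x).trans ?_
  refine (congrArg ((EtCoh.stalk ξ.1).map ((EtCore.pullComp h g).hom.app F))
    (toPull_cmp' (h ≫ g) F ξ x).symm).trans ?_
  exact stalk_pullComp h g F ξ.1 ξ₂.2 ξ₁.2 ξ.2 _

theorem trace_comp {Y : Scheme.{u}} (h : X ⟶ Y) (g : Y ⟶ S) [IsFinite h] [Flat h]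
    [LocallyOfFinitePresentation h] [IsFinite g] [Flat g] [LocallyOfFinitePresentation g]
    [IsFinite (h ≫ g)] [Flat (h ≫ g)] [LocallyOfFinitePresentation (h ≫ g)] (F : EtCoh.Ab S) :
    (trace (h ≫ g)).app F = ((EtCoh.push (h ≫ g)).map ((EtCore.pullComp h g).hom.app F) ≫ (EtCoh.pushComp g h).inv.app ((EtCoh.pull h).obj ((EtCoh.pull g).obj F)) ≫ (EtCoh.push g).map ((trace h).app ((EtCoh.pull g).obj F))) ≫ (trace g).app F := by
  refine hom_ext_stalks _ _ fun K _ _ η x => ?_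
  rw [Functor.map_comp, ConcreteCategory.comp_apply]
  refine (stalk_map_trApp (h ≫ g) F η x).trans (Eq.trans ?_ (stalk_map_trApp g F η _).symm)
  simp only [trStalk, AddMonoidHom.coe_finsetSum, Finset.sum_apply]
  rw [← (fibSigma h g η).sum_comp, Fintype.sum_sigma]
  refine Finset.sum_congr rfl fun ξ₁ _ => ?_
  refine Eq.trans ?_ (congrArg (fun z : (EtCoh.stalk η).obj F => mult g ξ₁ • z) (cmp_compMap h g F η ξ₁ x)).symm
  refine Eq.trans ?_ (Finset.smul_sum (N := (EtCoh.stalk η).obj F)).symm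
  refine Finset.sum_congr rfl fun ξ₂ _ => ?_
  refine Eq.trans ?_ (smul_smul (mult g ξ₁) (mult h ξ₂) _).symm
  exact congrArg (fun n : ℕ => n • cmp (h ≫ g) η F (fibSigma h g η ⟨ξ₁, ξ₂⟩) x)
    ((mult_comp h g (fibSigma h g η ⟨ξ₁, ξ₂⟩) ξ₁ ξ₂.2).trans (mul_comm _ _))

end Groth.Agent.Et18.FlatTrace
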