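import Groth.Agent.Et18.FlatTrace.Trace
import Groth.Agent.Et18.H0Lift.GermRel

/-!
# Composition of multiplicities and of the maps on stalks
-/

set_option autoImplicit false
set_option backward.isDefEq.respectTransparency.types false
set_option backward.isDefEq.respectTransparency false
set_option linter.unusedSectionVars false
set_option linter.unusedSimpArgs false

universe u

open CategoryTheory CategoryTheory.Limits AlgebraicGeometry Opposite
open Groth.Agent.Et18.H0Lift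

namespace Groth.Agent.Et18.FlatTrace

variable {X Y S : Scheme.{u}} {Ω : Type u} [Field Ω]

theorem finrank_comp_right_of_isIso (q : X ⟶ Y) [IsFinite q] [Flat q] (e : Y ⟶ S) [IsIso e] (y : Y) :
    (q ≫ e).finrank (e y) = q.finrank y :=
  (Scheme.Hom.finrank_of_isPullback (𝟙 X) q (q ≫ e) e (IsPullback.of_horiz_isIso ⟨by simp⟩) y).symm

/-- The rank of a composite over a one point scheme is the product of the ranks. -/
theorem finrank_comp_of_subsingleton {Z₁ Z₂ : Scheme.{u}} (q : Z₂ ⟶ Z₁)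
    (k : Z₁ ⟶ Spec (CommRingCat.of Ω)) [IsFinite q] [Flat q] [IsFinite k] [Subsingleton Z₁] (z : Z₁) :
    (q ≫ k).finrank default = q.finrank z * k.finrank default := by
  have : IsAffine Z₁ := isAffine_of_isAffineHom k
  have : IsAffine Z₂ := isAffine_of_isAffineHom q
  rw [finrank_eq_finrank_sections k, finrank_eq_finrank_sections (q ≫ k)]
  let A := Γ(Z₁, ⊤)
  let B := Γ(Z₂, ⊤)
  let : Algebra Ω A := (structHom k).hom.toAlgebra
  let : Algebra Ω B := (structHom (q ≫ k)).hom.toAlgebra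
  let : Algebra A B := q.appTop.hom.toAlgebra
  have : IsScalarTower Ω A B := IsScalarTower.of_algebraMap_eq fun x => by
    change structHom (q ≫ k) x = q.appTop (structHom k x)
    simp [structHom]
  have : Module.Finite Ω A := finite_sections k
  have : Module.Finite A B := q.finite_appTop
  have : Module.Flat A B := q.flat_appTop
  have : Subsingleton (PrimeSpectrum A) := Z₁.isoSpec.hom.homeomorph.symm.injective.subsingleton
  have : Nontrivial A := PrimeSpectrum.nonempty_iff_nontrivial.1 ⟨Z₁.isoSpec.hom z⟩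
  have : IsLocalRing A := IsLocalRing.of_unique_max_ideal (by
    obtain ⟨m, hm⟩ := Ideal.exists_maximal A
    refine ⟨m, hm, fun n hn => ?_⟩
    exact congrArg PrimeSpectrum.asIdeal
      (Subsingleton.elim (⟨n, hn.isPrime⟩ : PrimeSpectrum A) ⟨m, hm.isPrime⟩))
  have : Module.Free A B := Module.free_of_flat_of_isLocalRing
  have hb : q.finrank z = Module.finrank A B := by
    rw [← finrank_comp_right_of_isIso q Z₁.isoSpec.hom z]
    have he : q ≫ Z₁.isoSpec.hom = Z₂.isoSpec.hom ≫ Spec.map q.appTop := by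
      simp [Scheme.isoSpec_hom, Scheme.toSpecΓ_naturality]
    have : IsFinite (Spec.map q.appTop) := (IsFinite.SpecMap_iff _).2 q.finite_appTop
    have : Flat (Spec.map q.appTop) := Flat.SpecMap_iff.2 q.flat_appTop
    rw [he, Scheme.Hom.finrank_comp_left_of_isIso]
    refine (Scheme.Hom.finrank_SpecMap_algebraMap A B _).trans ?_
    rw [Module.rankAtStalk_eq_finrank_of_free]
    rfl
  rw [hb, mul_comm]
  exact (Module.finrank_mul_finrank Ω A B).symm

/-- Multiplicities multiply in composites. -/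
theorem mult_comp (h : X ⟶ Y) (g : Y ⟶ S) [IsFinite h] [Flat h] [LocallyOfFinitePresentation h]
    [IsFinite g] [IsFinite (h ≫ g)] {η : Spec (CommRingCat.of Ω) ⟶ S} (ξ : FibrePts (h ≫ g) η)
    (ξ₁ : FibrePts g η) (hξ : ξ.1 ≫ h = ξ₁.1) :
    mult (h ≫ g) ξ = mult h (η := ξ₁.1) ⟨ξ.1, hξ⟩ * mult g ξ₁ := by
  let s₁ := fibSec g ξ₁
  let CY := pullback g η
  let CX := pullback h (pullback.fst g η)
  let hC : CX ⟶ CY := pullback.snd h (pullback.fst g η)
  have hs₁a : s₁ ≫ pullback.fst g η = ξ₁.1 := pullback.lift_fst _ _ _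
  have hs₁b : s₁ ≫ pullback.snd g η = 𝟙 _ := pullback.lift_snd _ _ _
  let s₂ : Spec (CommRingCat.of Ω) ⟶ CX := pullback.lift ξ.1 s₁ (hξ.trans hs₁a.symm)
  have hs₂ : s₂ ≫ hC = s₁ := pullback.lift_snd _ _ _
  have : IsFinite hC := MorphismProperty.pullback_snd _ _ inferInstance
  have : Flat hC := MorphismProperty.pullback_snd _ _ inferInstance
  have := discreteTopology_of_isFinite (pullback.snd g η)
  have := discreteTopology_of_isFinite (hC ≫ pullback.snd g η)
  let U₁ := openPt (s₁ default)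
  let U₂ := openPt (s₂ default)
  have : IsFinite (U₁.ι ≫ pullback.snd g η) := isFinite_opens_ι_comp _ _ (isClosed_discrete _)
  have hsub : Subsingleton U₁.toScheme := ⟨fun a b => Subtype.ext (a.2.trans b.2.symm)⟩
  let q : U₂.toScheme ⟶ U₁.toScheme := IsOpenImmersion.lift U₁.ι (U₂.ι ≫ hC) (by
    rw [Scheme.Opens.range_ι]
    rintro _ ⟨z, rfl⟩
    have hz : U₂.ι z = s₂ default := z.2
    rw [Scheme.Hom.comp_apply, hz, ← Scheme.Hom.comp_apply, hs₂]
    rfl)
  have hq : q ≫ U₁.ι = U₂.ι ≫ hC := IsOpenImmersion.lift_fac _ _ _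
  have : IsFinite (q ≫ U₁.ι) := by rw [hq]; exact isFinite_opens_ι_comp _ _ (isClosed_discrete _)
  have : Flat (q ≫ U₁.ι) := by rw [hq]; infer_instance
  have : IsFinite q := MorphismProperty.of_postcomp (W := @IsFinite) (W' := @IsSeparated) q U₁.ι
    inferInstance inferInstance
  let l₁ : Spec (CommRingCat.of Ω) ⟶ U₁.toScheme := IsOpenImmersion.lift U₁.ι s₁ (by
    rw [Scheme.Opens.range_ι]
    rintro _ ⟨z, rfl⟩
    rw [Subsingleton.elim z default]
    rfl)
  have hl₁ : l₁ ≫ U₁.ι = s₁ := IsOpenImmersion.lift_fac _ _ _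
  have : Flat q := by
    have sq : IsPullback (𝟙 U₂.toScheme) q (q ≫ U₁.ι) U₁.ι :=
      IsPullback.of_isLimit' ⟨by simp⟩ (PullbackCone.IsLimit.mk _ (fun s => s.fst) (fun s => Category.comp_id _)
        (fun s => by rw [← cancel_mono U₁.ι, Category.assoc]; exact s.condition)
        (fun s m h₁ _ => by simpa using h₁))
    exact MorphismProperty.of_isPullback (P := @Flat) sq inferInstance
  have h1 : mult (h ≫ g) ξ = ((U₂.ι ≫ hC) ≫ pullback.snd g η).finrank default := by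
    refine (mult_eq (h ≫ g) ξ ((IsPullback.of_hasPullback h (pullback.fst g η)).paste_vert
      (IsPullback.of_hasPullback g η)) U₂.ι s₂ (pullback.lift_fst _ _ _)
      ?_ ?_).trans ?_
    · rw [← Category.assoc, hs₂, hs₁b]
    · rw [Scheme.Opens.range_ι]; rfl
    · rw [Category.assoc]
  have h2 : mult g ξ₁ = (U₁.ι ≫ pullback.snd g η).finrank default := rfl
  let P := pullback hC s₁
  let pc : P ⟶ CX := pullback.fst hC s₁
  let s₃ : Spec (CommRingCat.of Ω) ⟶ P := pullback.lift s₂ (𝟙 _) (by rw [hs₂, Category.id_comp])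
  have sqP : IsPullback (pc ≫ pullback.fst h (pullback.fst g η)) (pullback.snd hC s₁) h ξ₁.1 := by
    rw [← hs₁a]
    exact (IsPullback.of_hasPullback hC s₁).flip.paste_vert
      (IsPullback.of_hasPullback h (pullback.fst g η)).flip |>.flip
  have : IsClosedImmersion s₁ := isClosedImmersion_of_comp_eq_id (pullback.snd g η) s₁ hs₁b
  have : IsClosedImmersion pc := MorphismProperty.pullback_fst (P := @IsClosedImmersion) _ _ inferInstance
  have h3 : mult h (η := ξ₁.1) ⟨ξ.1, hξ⟩ = ((pc ⁻¹ᵁ U₂).ι ≫ pullback.snd hC s₁).finrank default := by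
    refine mult_eq h (η := ξ₁.1) ⟨ξ.1, hξ⟩ sqP (pc ⁻¹ᵁ U₂).ι s₃ ?_ (pullback.lift_snd _ _ _) ?_
    · simp only [s₃, pc, pullback.lift_fst_assoc]
      exact pullback.lift_fst _ _ _
    · rw [Scheme.Opens.range_ι]
      ext z
      change pc z = s₂ default ↔ z = s₃ default
      have hs : pc (s₃ default) = s₂ default := by
        rw [← Scheme.Hom.comp_apply, pullback.lift_fst]
      exact ⟨fun hz => pc.isClosedEmbedding.injective (hz.trans hs.symm), fun hz => hz ▸ hs⟩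
  have sqq : IsPullback (pc ∣_ U₂) ((pc ⁻¹ᵁ U₂).ι ≫ pullback.snd hC s₁) q l₁ := by
    have t : IsPullback (pc ∣_ U₂) ((pc ⁻¹ᵁ U₂).ι ≫ pullback.snd hC s₁) (q ≫ U₁.ι) (l₁ ≫ U₁.ι) := by
      rw [hq, hl₁]
      exact (isPullback_morphismRestrict pc U₂).paste_vert (IsPullback.of_hasPullback hC s₁)
    exact IsPullback.of_isLimit' ⟨(cancel_mono U₁.ι).1 (by simpa [Category.assoc] using t.w)⟩
      (PullbackCone.IsLimit.mk _ (fun s => t.lift s.fst s.snd (by rw [reassoc_of% s.condition]))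
        (fun s => t.lift_fst _ _ _) (fun s => t.lift_snd _ _ _)
        (fun s m h₁ h₂ => t.hom_ext (h₁.trans (t.lift_fst _ _ _).symm) (h₂.trans (t.lift_snd _ _ _).symm)))
  rw [h1, h2, h3, Scheme.Hom.finrank_of_isPullback _ _ q l₁ sqq default, ← hq, Category.assoc]
  exact finrank_comp_of_subsingleton q _ (l₁ default)

variable [IsSepClosed Ω]

theorem fibreNat_comp (h : X ⟶ Y) (g : Y ⟶ S) {η : Spec (CommRingCat.of Ω) ⟶ S}
    (ξ : FibrePts (h ≫ g) η) (ξ₁ : FibrePts g η) (hξ : ξ.1 ≫ h = ξ₁.1) (G : EtCoh.Ab X)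
    (x : (EtCoh.stalk η).obj ((EtCoh.push (h ≫ g)).obj G)) :
    (fibreNat h ξ₁.1 AddCommGrpCat.{u + 1} ⟨ξ.1, hξ⟩).app G
        ((fibreNat g η AddCommGrpCat.{u + 1} ξ₁).app ((EtCoh.push h).obj G)
          ((EtCoh.stalk η).map ((EtCoh.pushComp g h).inv.app G) x)) =
      (fibreNat (h ≫ g) η AddCommGrpCat.{u + 1} ξ).app G x := by
  obtain ⟨V, v, σ, rfl⟩ := (Scheme.pointSmallEtale η).toPresheafFiber_jointly_surjective
    (P := ((EtCoh.push (h ≫ g)).obj G).obj) x
  let κ := (MorphismProperty.Over.pullbackComp (P := EtCoh.etaleMP) (Q := ⊤) h g).inv.app V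
  refine (congrArg (fun z => (fibreNat h ξ₁.1 AddCommGrpCat.{u + 1} ⟨ξ.1, hξ⟩).app G
    ((fibreNat g η AddCommGrpCat.{u + 1} ξ₁).app ((EtCoh.push h).obj G) z))
    (gm_hom ((EtCoh.pushComp g h).inv.app G) η V v σ)).trans ?_
  refine (congrArg (fun z => (fibreNat h ξ₁.1 AddCommGrpCat.{u + 1} ⟨ξ.1, hξ⟩).app G z)
    (ConcreteCategory.congr_hom
      (toPresheafFiber_fibreNat g η AddCommGrpCat.{u + 1} ξ₁ ((EtCoh.push h).obj G) V v) _)).trans ?_
  refine (ConcreteCategory.congr_hom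
      (toPresheafFiber_fibreNat h ξ₁.1 AddCommGrpCat.{u + 1} ⟨ξ.1, hξ⟩ G ((EtCoh.bc g).obj V)
        (bcLift g η ξ₁ V v)) _).trans ?_
  refine Eq.trans ?_ (ConcreteCategory.congr_hom
      (toPresheafFiber_fibreNat (h ≫ g) η AddCommGrpCat.{u + 1} ξ G V v) _).symm
  let σ' : EtCoh.sect G ((EtCoh.bc (h ≫ g)).obj V) := σ
  have hc : ((EtCoh.pushComp g h).inv.app G).hom.app (op V) σ = G.obj.map κ.op σ' := by
    simp [EtCoh.pushComp, κ]
    rfl
  refine (congrArg (gm G ξ.1 _ _) hc).trans ((gm_map G ξ.1 κ _ σ').trans ?_)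
  refine congrArg (fun w => gm G ξ.1 _ w σ') ?_
  let C := MorphismProperty.Over.pullbackComp (P := EtCoh.etaleMP) (Q := ⊤) h g
  have a₁ : κ.left ≫ EtShriek.prV (h ≫ g) V =
      EtShriek.prV h ((EtCoh.bc g).obj V) ≫ EtShriek.prV g V := by
    rw [← bcPair_fst_fst h g V, ← Category.assoc]
    have e₁ : κ.left ≫ (C.hom.app V).left = 𝟙 _ := congrArg (fun t => t.left) (C.inv_hom_id_app V)
    change (κ.left ≫ (C.hom.app V).left) ≫ _ = _
    rw [e₁, Category.id_comp]
  refine (bcLiftEquiv (h ≫ g) η ξ V).symm.injective (Over.OverMorphism.ext ?_)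
  change ((bcLift h ξ₁.1 ⟨ξ.1, hξ⟩ _ (bcLift g η ξ₁ V v)).left ≫ κ.left) ≫ EtShriek.prV (h ≫ g) V =
    (bcLift (h ≫ g) η ξ V v).left ≫ EtShriek.prV (h ≫ g) V
  rw [Category.assoc, a₁]
  simp [bcLift]

theorem pullComp_eq_compHom (a : X ⟶ Y) (b : Y ⟶ S) (F : EtCoh.Ab S) :
    (EtCore.pullComp a b).hom.app F = compHom a b F := by
  apply ((EtCoh.pullPushAdj (a ≫ b)).homEquiv _ _).injective
  simp only [EtCore.pullComp, Adjunction.homEquiv_leftAdjointUniq_hom_app, compHom, Equiv.apply_symm_apply]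
  simp [Adjunction.ofNatIsoRight, Adjunction.comp]

theorem stalk_pullComp (a : X ⟶ Y) (b : Y ⟶ S) (F : EtCoh.Ab S) (ξ : Spec (CommRingCat.of Ω) ⟶ X)
    {η : Spec (CommRingCat.of Ω) ⟶ S} {η₁ : Spec (CommRingCat.of Ω) ⟶ Y} (ha : ξ ≫ a = η₁)
    (hb : η₁ ≫ b = η) (hc : ξ ≫ a ≫ b = η) (e : (EtCoh.stalk η).obj F) :
    (EtCoh.stalk ξ).map ((EtCore.pullComp a b).hom.app F) (toPull (a ≫ b) η ⟨ξ, hc⟩ F e) =
      toPull a η₁ ⟨ξ, ha⟩ ((EtCoh.pull b).obj F) (toPull b η ⟨η₁, hb⟩ F e) := by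
  rw [pullComp_eq_compHom]
  exact stalk_compHom a b ξ ha hb hc e

theorem stalk_pullComp_inv (a : X ⟶ Y) (b : Y ⟶ S) (F : EtCoh.Ab S) (ξ : Spec (CommRingCat.of Ω) ⟶ X)
    {η : Spec (CommRingCat.of Ω) ⟶ S} {η₁ : Spec (CommRingCat.of Ω) ⟶ Y} (ha : ξ ≫ a = η₁)
    (hb : η₁ ≫ b = η) (hc : ξ ≫ a ≫ b = η) (e : (EtCoh.stalk η).obj F) :
    (EtCoh.stalk ξ).map ((EtCore.pullComp a b).inv.app F)
        (toPull a η₁ ⟨ξ, ha⟩ ((EtCoh.pull b).obj F) (toPull b η ⟨η₁, hb⟩ F e)) =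
      toPull (a ≫ b) η ⟨ξ, hc⟩ F e := by
  refine (congrArg _ (stalk_pullComp a b F ξ ha hb hc e).symm).trans ?_
  refine (ConcreteCategory.congr_hom ((EtCoh.stalk ξ).map_comp _ _) _).symm.trans ?_
  rw [(EtCore.pullComp a b).hom_inv_id_app]
  exact ConcreteCategory.congr_hom ((EtCoh.stalk ξ).map_id _) _

theorem stalk_pullCongr {k k' : X ⟶ S} (hk : k = k') (F : EtCoh.Ab S) (ξ : Spec (CommRingCat.of Ω) ⟶ X)
    {η : Spec (CommRingCat.of Ω) ⟶ S} (a : ξ ≫ k = η) (b : ξ ≫ k' = η) (e : (EtCoh.stalk η).obj F) :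
    (EtCoh.stalk ξ).map ((EtCore.pullCongr hk).hom.app F) (toPull k η ⟨ξ, a⟩ F e) =
      toPull k' η ⟨ξ, b⟩ F e := by
  subst hk
  exact ConcreteCategory.congr_hom ((EtCoh.stalk ξ).map_id _) _

end Groth.Agent.Et18.FlatTrace
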