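import Groth.Agent.Et18.FlatTrace.Mult
import Groth.Agent.Et18.H0Lift.Main
import Groth.Agent.Et18.FiniteFibreApps

/-!
# The trace on stalks along a finite flat morphism, and its local realisation
-/

set_option autoImplicit false
set_option backward.isDefEq.respectTransparency.types false
set_option backward.isDefEq.respectTransparency false
set_option linter.unusedSectionVars false
set_option linter.unusedSimpArgs false

universe u

open CategoryTheory CategoryTheory.Limits AlgebraicGeometry Opposite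
open Groth.Agent.Et18.H0Lift

namespace Groth.Agent.Et18.FlatTrace

variable {X S : Scheme.{u}} (f : X ⟶ S) [IsFinite f]

noncomputable instance {Ω : Type u} [Field Ω] (η : Spec (CommRingCat.of Ω) ⟶ S) :
    Fintype (FibrePts f η) :=
  haveI := finite_lifts_of_isFinite f η
  Fintype.ofFinite _

variable {Ω : Type u} [Field Ω] [IsSepClosed Ω] (η : Spec (CommRingCat.of Ω) ⟶ S) (F : EtCoh.Ab S)

/-- The component at a point of the fibre. -/
noncomputable def cmp (ξ : FibrePts f η) :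
    (EtCoh.stalk η).obj ((EtCoh.push f).obj ((EtCoh.pull f).obj F)) →+ (EtCoh.stalk η).obj F :=
  haveI := isIso_toPull f η ξ F
  (inv (toPull f η ξ F)).hom.comp
    ((fibreNat f η AddCommGrpCat.{u + 1} ξ).app ((EtCoh.pull f).obj F)).hom

/-- The trace on a stalk. -/
noncomputable def trStalk :
    (EtCoh.stalk η).obj ((EtCoh.push f).obj ((EtCoh.pull f).obj F)) →+ (EtCoh.stalk η).obj F :=
  ∑ ξ, mult f ξ • cmp f η F ξ

theorem toPull_cmp (ξ : FibrePts f η) (V : S.Etale) (v : (Scheme.pointSmallEtale η).fiber.obj V)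
    (σ : EtCoh.sect ((EtCoh.pull f).obj F) ((EtCoh.bc f).obj V)) :
    toPull f η ξ F (cmp f η F ξ (gm ((EtCoh.push f).obj ((EtCoh.pull f).obj F)) η V v σ)) =
      gm ((EtCoh.pull f).obj F) ξ.1 ((EtCoh.bc f).obj V) (bcLift f η ξ V v) σ := by
  have := isIso_toPull f η ξ F
  refine (ConcreteCategory.congr_hom (IsIso.inv_hom_id (toPull f η ξ F)) _).trans ?_
  exact ConcreteCategory.congr_hom
    (toPresheafFiber_fibreNat f η AddCommGrpCat.{u + 1} ξ ((EtCoh.pull f).obj F) V v) σ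

/-- `τ` has the trace germs of `σ` at the geometric points. -/
def IsTr (V : S.Etale) (σ : EtCoh.sect ((EtCoh.pull f).obj F) ((EtCoh.bc f).obj V))
    (τ : EtCoh.sect F V) : Prop :=
  ∀ ⦃K : Type u⦄ [Field K] [IsAlgClosed K] (ν : Spec (CommRingCat.of K) ⟶ S)
    (v : (Scheme.pointSmallEtale ν).fiber.obj V),
    gm F ν V v τ = trStalk f ν F (gm ((EtCoh.push f).obj ((EtCoh.pull f).obj F)) ν V v σ)

theorem IsTr.unique {V : S.Etale} {σ : EtCoh.sect ((EtCoh.pull f).obj F) ((EtCoh.bc f).obj V)}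
    {τ τ' : EtCoh.sect F V} (h : IsTr f F V σ τ) (h' : IsTr f F V σ τ') : τ = τ' := by
  refine sub_eq_zero.1 (eq_zero_of_germs F V (τ - τ') fun w v _ => ?_)
  exact (map_sub _ _ _).trans (sub_eq_zero.2 ((h _ v).trans (h' _ v).symm))

variable [Flat f] [LocallyOfFinitePresentation f]

theorem exists_common_germs [IsAlgClosed Ω] (V : S.Etale)
    (v : (Scheme.pointSmallEtale η).fiber.obj V) (c : FibrePts f η → (EtCoh.stalk η).obj F) :
    ∃ (V₀ : S.Etale) (a : V₀ ⟶ V) (v₀ : (Scheme.pointSmallEtale η).fiber.obj V₀)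
      (t : FibrePts f η → EtCoh.sect F V₀),
      (Scheme.pointSmallEtale η).fiber.map a v₀ = v ∧ ∀ ξ, gm F η V₀ v₀ (t ξ) = c ξ := by
  classical
  let Φ := Scheme.pointSmallEtale η
  choose W w s hs using fun ξ => Φ.toPresheafFiber_jointly_surjective (P := F.obj) (c ξ)
  obtain ⟨⟨V₀, v₀⟩, h⟩ := IsCofiltered.inf_objs_exists
    (insert (Φ.fiber.elementsMk V v) (Finset.univ.image fun ξ => Φ.fiber.elementsMk (W ξ) (w ξ)))
  obtain ⟨a⟩ := h (Finset.mem_insert_self _ _)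
  have hb := fun ξ => h (Finset.mem_insert_of_mem
    (Finset.mem_image.2 ⟨ξ, Finset.mem_univ _, rfl⟩ : Φ.fiber.elementsMk (W ξ) (w ξ) ∈ _))
  refine ⟨V₀, a.1, v₀, fun ξ => F.obj.map (hb ξ).some.1.op (s ξ), a.2, fun ξ => ?_⟩
  refine (gm_map _ _ _ _ _).trans ?_
  rw [← hs ξ]
  exact congrArg (fun k => gm F η (W ξ) k (s ξ)) (hb ξ).some.2

/-- Near every geometric point the trace is realised by a section. -/
theorem exists_local_tr [IsAlgClosed Ω] (V : S.Etale)
    (σ : EtCoh.sect ((EtCoh.pull f).obj F) ((EtCoh.bc f).obj V))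
    (v : (Scheme.pointSmallEtale η).fiber.obj V) :
    ∃ (V' : S.Etale) (a : V' ⟶ V) (v' : (Scheme.pointSmallEtale η).fiber.obj V') (τ : EtCoh.sect F V'),
      (Scheme.pointSmallEtale η).fiber.map a v' = v ∧
      IsTr f F V' (((EtCoh.pull f).obj F).obj.map ((EtCoh.bc f).map a).op σ) τ := by
  classical
  let G := (EtCoh.pull f).obj F
  let P := (EtCoh.push f).obj G
  let c : FibrePts f η → (EtCoh.stalk η).obj F := fun ξ => cmp f η F ξ (gm P η V v σ)
  obtain ⟨V₀, a₀, v₀, t, hv₀, ht⟩ := exists_common_germs f η F V v c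
  let σ₀ : EtCoh.sect G ((EtCoh.bc f).obj V₀) := G.obj.map ((EtCoh.bc f).map a₀).op σ
  have hσ₀ : gm P η V₀ v₀ σ₀ = gm P η V v σ :=
    (gm_map P η a₀ v₀ σ).trans (congrArg (fun k => gm P η V k σ) hv₀)
  have heq : ∀ ξ, gm G ξ.1 ((EtCoh.bc f).obj V₀) (bcLift f η ξ V₀ v₀) σ₀ =
      gm G ξ.1 ((EtCoh.bc f).obj V₀) (bcLift f η ξ V₀ v₀) (uAt f F V₀ (t ξ)) := fun ξ => by
    refine (toPull_cmp f η F ξ V₀ v₀ σ₀).symm.trans ?_
    refine Eq.trans ?_ (gm_unit f ξ F V₀ v₀ (t ξ)).symm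
    exact congrArg _ ((congrArg _ hσ₀).trans (ht ξ).symm)
  choose W g w hw hst using fun ξ : FibrePts f η =>
    ((Scheme.pointSmallEtale ξ.1).toPresheafFiber_eq_iff' _ _ _ _).mp (heq ξ)
  obtain ⟨V₁, a₁, v₁, hv₁, D, hdis, hcov, h, d, hh⟩ := exists_split f η V₀ v₀ W g w hw
  let B := (EtCoh.bc f).obj V₁
  let p : B.left ⟶ V₁.left := pullback.fst V₁.hom f
  have : IsFinite p := MorphismProperty.pullback_fst _ _ inferInstance
  have : Flat p := MorphismProperty.pullback_fst _ _ inferInstance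
  have : LocallyOfFinitePresentation p := MorphismProperty.pullback_fst _ _ inferInstance
  let q := fun i => (D i).ι ≫ p
  have hclosed : ∀ i, IsClosed ((D i : B.left.Opens) : Set B.left) := fun i => by
    rw [← isOpen_compl_iff]
    have hc : ((D i : B.left.Opens) : Set B.left)ᶜ = ⋃ j ∈ {j | j ≠ i}, (D j : Set B.left) := by
      ext x
      simp only [Set.mem_compl_iff, SetLike.mem_coe, Set.mem_iUnion, Set.mem_setOf_eq, exists_prop]
      constructor
      · intro hx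
        obtain ⟨j, hj⟩ := TopologicalSpace.Opens.mem_iSup.1 (hcov ▸ trivial : x ∈ ⨆ i, D i)
        exact ⟨j, fun hji => hx (hji ▸ hj), hj⟩
      · rintro ⟨j, hji, hj⟩ hx
        exact (Set.disjoint_left.1 (TopologicalSpace.Opens.coe_disjoint.2 (hdis j i hji))) hj hx
    rw [hc]
    exact isOpen_biUnion fun j _ => (D j).2
  have : ∀ i, IsFinite (q i) := fun i => isFinite_opens_ι_comp p _ (hclosed i)
  let v₁l : Spec (CommRingCat.of Ω) ⟶ V₁.left := v₁.left
  let n : FibrePts f η → ℕ := fun i => (q i).finrank (v₁l default)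
  let L : V₁.left.Opens := ⟨⋂ i, (q i).finrank ⁻¹' {n i},
    isOpen_iInter_of_finite fun i => (Scheme.Hom.isLocallyConstant_finrank (q i)) _⟩
  let V₂ : S.Etale := etalePiece V₁ L
  let b : V₂ ⟶ V₁ := etalePieceHom V₁ L
  have hvL : v₁l default ∈ L := Set.mem_iInter.2 fun i => rfl
  let l : Spec (CommRingCat.of Ω) ⟶ L.toScheme := IsOpenImmersion.lift L.ι v₁l (by
    rw [Scheme.Opens.range_ι]; rintro _ ⟨z, rfl⟩; rw [Subsingleton.elim z default]; exact hvL)
  let v₂ : (Scheme.pointSmallEtale η).fiber.obj V₂ := Over.homMk l (by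
    change l ≫ L.ι ≫ V₁.hom = η
    rw [← Category.assoc, IsOpenImmersion.lift_fac]; exact Over.w v₁)
  let t' : FibrePts f η → EtCoh.sect F V₁ := fun i => F.obj.map a₁.op (t i)
  let σ₁ : EtCoh.sect G B := G.obj.map ((EtCoh.bc f).map a₁).op σ₀
  refine ⟨V₂, b ≫ a₁ ≫ a₀, v₂, F.obj.map b.op (∑ i, n i • t' i), ?_, ?_⟩
  · rw [Functor.map_comp_apply, Functor.map_comp_apply]
    have hb : (Scheme.pointSmallEtale η).fiber.map b v₂ = v₁ :=
      Over.OverMorphism.ext (IsOpenImmersion.lift_fac _ _ _)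
    rw [hb, hv₁, hv₀]
  intro K _ _ ν u
  have hσ₂ : gm P ν V₂ u (G.obj.map ((EtCoh.bc f).map (b ≫ a₁ ≫ a₀)).op σ) =
      gm P ν V₁ ((Scheme.pointSmallEtale ν).fiber.map b u) σ₁ := by
    refine Eq.trans ?_ (gm_map P ν b u σ₁)
    refine congrArg (gm P ν V₂ u) ?_
    simp only [σ₁, σ₀, Functor.map_comp, op_comp]
    rfl
  refine (gm_map F ν b u _).trans (Eq.trans ?_ (congrArg (trStalk f ν F) hσ₂).symm)
  let u₁ := (Scheme.pointSmallEtale ν).fiber.map b u
  let ul : Spec (CommRingCat.of K) ⟶ L.toScheme := u.left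
  let u₁l : Spec (CommRingCat.of K) ⟶ V₁.left := ul ≫ L.ι
  have hn : ∀ i, (q i).finrank (u₁l default) = n i := fun i => Set.mem_iInter.1 (ul default).2 i
  let z : FibrePts f ν → (Spec (CommRingCat.of K) ⟶ B.left) := fun ξ => (bcLift f ν ξ V₁ u₁).left
  have hz₁ : ∀ ξ, z ξ ≫ p = u₁l := fun ξ => pullback.lift_fst _ _ _
  have hz₂ : ∀ ξ, z ξ ≫ pullback.snd V₁.hom f = ξ.1 := fun ξ => pullback.lift_snd _ _ _
  have hmem : ∀ ξ, ∃ i, z ξ default ∈ D i := fun ξ =>
    TopologicalSpace.Opens.mem_iSup.1 (hcov ▸ trivial : z ξ default ∈ ⨆ i, D i)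
  choose κ hκ using hmem
  let zD : ∀ ξ, Spec (CommRingCat.of K) ⟶ (D (κ ξ)).toScheme := fun ξ =>
    IsOpenImmersion.lift (D (κ ξ)).ι (z ξ) (by
      rw [Scheme.Opens.range_ι]; rintro _ ⟨y, rfl⟩; rw [Subsingleton.elim y default]; exact hκ ξ)
  have hzD : ∀ ξ, zD ξ ≫ (D (κ ξ)).ι = z ξ := fun ξ => IsOpenImmersion.lift_fac _ _ _
  -- the components
  have hc : ∀ ξ, cmp f ν F ξ (gm P ν V₁ u₁ σ₁) = gm F ν V₁ u₁ (t' (κ ξ)) := fun ξ => by
    refine (bijective_toPull f ξ F).1 ((toPull_cmp f ν F ξ V₁ u₁ σ₁).trans ?_)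
    refine Eq.trans ?_ (gm_unit f ξ F V₁ u₁ (t' (κ ξ)))
    let e := etalePieceHom B (D (κ ξ))
    let dd : (Scheme.pointSmallEtale ξ.1).fiber.obj (etalePiece B (D (κ ξ))) := Over.homMk (zD ξ) (by
      change zD ξ ≫ (D (κ ξ)).ι ≫ B.hom = ξ.1
      rw [← Category.assoc, hzD]; exact hz₂ ξ)
    have hdd : (Scheme.pointSmallEtale ξ.1).fiber.map e dd = bcLift f ν ξ V₁ u₁ :=
      Over.OverMorphism.ext (hzD ξ)
    rw [← hdd, ← gm_map G ξ.1 e dd, ← gm_map G ξ.1 e dd]
    refine congrArg (gm G ξ.1 _ dd) ?_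
    have hu : uAt f F V₁ (t' (κ ξ)) = G.obj.map ((EtCoh.bc f).map a₁).op (uAt f F V₀ (t (κ ξ))) :=
      ConcreteCategory.congr_hom (((EtCoh.pullPushAdj f).unit.app F).hom.naturality a₁.op) _
    refine Eq.trans ?_ (congrArg (G.obj.map e.op) hu.symm)
    change G.obj.map e.op (G.obj.map ((EtCoh.bc f).map a₁).op σ₀) =
      G.obj.map e.op (G.obj.map ((EtCoh.bc f).map a₁).op (uAt f F V₀ (t (κ ξ))))
    have he : ∀ y : EtCoh.sect G ((EtCoh.bc f).obj V₀),
        G.obj.map e.op (G.obj.map ((EtCoh.bc f).map a₁).op y) =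
          G.obj.map (h (κ ξ)).op (G.obj.map (g (κ ξ)).op y) := fun y => by
      rw [← Functor.map_comp_apply, ← op_comp, ← (hh (κ ξ)).1, op_comp, Functor.map_comp_apply]
    exact (he σ₀).trans ((congrArg _ (hst (κ ξ))).trans (he _).symm)
  -- the ranks
  have hsum : ∀ i, ∑ ξ ∈ Finset.univ.filter (κ · = i), mult f ξ = n i := fun i => by
    rw [← hn i, ← sum_mult (q i) (η := u₁l)]
    have sq : IsPullback (pullback.snd V₁.hom f) p f V₁.hom := (IsPullback.of_hasPullback _ _).flip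
    have huν : u₁l ≫ V₁.hom = ν := Over.w u₁
    let e : FibrePts (q i) u₁l → FibrePts f ν := fun ζ => ⟨ζ.1 ≫ (D i).ι ≫ pullback.snd V₁.hom f, by
      simp only [Category.assoc, ← pullback.condition]
      have h2 : ζ.1 ≫ (D i).ι ≫ p = u₁l := ζ.2
      rw [reassoc_of% h2, huν]⟩
    have hze : ∀ ζ, z (e ζ) = ζ.1 ≫ (D i).ι := fun ζ => pullback.hom_ext
      ((hz₁ (e ζ)).trans ((Category.assoc _ _ _).trans ζ.2).symm)
      ((hz₂ (e ζ)).trans (Category.assoc _ _ _).symm)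
    refine (Finset.sum_bij (fun ζ _ => e ζ) (fun ζ _ => ?_) (fun ζ _ ζ' _ h => ?_) (fun ξ hξ => ?_)
      (fun ζ _ => ?_)).symm
    · refine Finset.mem_filter.2 ⟨Finset.mem_univ _, ?_⟩
      by_contra hne
      have hm : z (e ζ) default ∈ D i := by rw [hze]; exact (ζ.1 default).2
      exact Set.disjoint_left.1 (TopologicalSpace.Opens.coe_disjoint.2 (hdis _ _ hne)) (hκ (e ζ)) hm
    · refine Subtype.ext ((cancel_mono (D i).ι).1 ?_)
      rw [← hze ζ, ← hze ζ']
      exact congrArg z h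
    · obtain ⟨-, rfl⟩ := Finset.mem_filter.1 hξ
      refine ⟨⟨zD ξ, (Category.assoc _ _ _).symm.trans ((congrArg (· ≫ p) (hzD ξ)).trans (hz₁ ξ))⟩,
        Finset.mem_univ _, Subtype.ext ?_⟩
      change zD ξ ≫ _ ≫ _ = ξ.1
      rw [← Category.assoc, hzD, hz₂]
    · rw [mult_comp_openImmersion p (D i).ι ζ, mult_baseChange f sq _ huν]
      congr 1
  simp only [trStalk, AddMonoidHom.coe_finsetSum, Finset.sum_apply]
  rw [← Finset.sum_fiberwise Finset.univ κ]
  refine (map_sum _ _ _).trans (Finset.sum_congr rfl fun i _ => ?_)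
  refine (map_nsmul _ _ _).trans ?_
  refine Eq.trans ?_ (Finset.sum_congr rfl (fun ξ hξ => (show mult f ξ • gm F ν V₁ u₁ (t' i) =
    (mult f ξ • cmp f ν F ξ) (gm P ν V₁ u₁ σ₁) from by
      rw [← (Finset.mem_filter.1 hξ).2, ← hc ξ]; rfl)))
  rw [← Finset.sum_smul, hsum]
  rfl

end Groth.Agent.Et18.FlatTrace
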