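import Groth.Agent.Et18.FiniteFibre
import Mathlib.AlgebraicGeometry.Artinian
import Mathlib.AlgebraicGeometry.AlgClosed.Basic
import Mathlib.AlgebraicGeometry.Morphisms.FlatRank

/-!
# Multiplicities of the points of a finite scheme over an algebraically closed field
-/

set_option autoImplicit false
set_option backward.isDefEq.respectTransparency.types false
set_option backward.isDefEq.respectTransparency false

universe u

open CategoryTheory CategoryTheory.Limits AlgebraicGeometry Opposite

namespace Groth.Agent.Et18.FlatTrace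

variable {Ω : Type u} [Field Ω]

/-- The structure map on global sections. -/
noncomputable abbrev structHom {Z : Scheme.{u}} (k : Z ⟶ Spec (CommRingCat.of Ω)) :
    CommRingCat.of Ω ⟶ Γ(Z, ⊤) :=
  (Scheme.ΓSpecIso (CommRingCat.of Ω)).inv ≫ k.appTop

theorem isoSpec_structHom {Z : Scheme.{u}} (k : Z ⟶ Spec (CommRingCat.of Ω)) [IsAffine Z] :
    Z.isoSpec.hom ≫ Spec.map (structHom k) = k := by
  simp [structHom, ← Scheme.toSpecΓ_naturality_assoc, Scheme.isoSpec_hom]

theorem finite_sections {Z : Scheme.{u}} (k : Z ⟶ Spec (CommRingCat.of Ω)) [IsFinite k] :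
    (structHom k).hom.Finite := by
  have : IsAffine Z := isAffine_of_isAffineHom k
  have : IsFinite (Spec.map (structHom k)) := by
    rw [show Spec.map (structHom k) = Z.isoSpec.inv ≫ k by rw [Iso.eq_inv_comp, isoSpec_structHom]]
    infer_instance
  exact (IsFinite.SpecMap_iff _).1 this

theorem discreteTopology_of_isFinite {Z : Scheme.{u}} (k : Z ⟶ Spec (CommRingCat.of Ω)) [IsFinite k] :
    DiscreteTopology Z := by
  have : IsAffine Z := isAffine_of_isAffineHom k
  let : Algebra Ω Γ(Z, ⊤) := (structHom k).hom.toAlgebra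
  have : Module.Finite Ω Γ(Z, ⊤) := finite_sections k
  have : IsArtinianRing Γ(Z, ⊤) := isArtinian_of_tower Ω inferInstance
  exact Z.isoSpec.hom.homeomorph.symm.discreteTopology

/-- The rank of a finite scheme over a field is the dimension of its global sections. -/
theorem finrank_eq_finrank_sections {Z : Scheme.{u}} (k : Z ⟶ Spec (CommRingCat.of Ω)) [IsFinite k] :
    letI : Algebra Ω Γ(Z, ⊤) := (structHom k).hom.toAlgebra
    k.finrank default = Module.finrank Ω Γ(Z, ⊤) := by
  let : Algebra Ω Γ(Z, ⊤) := (structHom k).hom.toAlgebra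
  have : IsAffine Z := isAffine_of_isAffineHom k
  have : Module.Finite Ω Γ(Z, ⊤) := finite_sections k
  have : IsFinite (Spec.map (structHom k)) := (IsFinite.SpecMap_iff _).2 (finite_sections k)
  conv_lhs => rw [← isoSpec_structHom k, Scheme.Hom.finrank_comp_left_of_isIso]
  refine (Scheme.Hom.finrank_SpecMap_algebraMap Ω Γ(Z, ⊤) _).trans ?_
  rw [Module.rankAtStalk_eq_finrank_of_free]
  rfl

theorem isFinite_opens_ι_comp {Z Y : Scheme.{u}} (k : Z ⟶ Y) [IsFinite k] (U : Z.Opens)
    (hU : IsClosed (U : Set Z)) : IsFinite (U.ι ≫ k) := by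
  have : IsClosedImmersion U.ι := IsClosedImmersion.of_isPreimmersion _ (by rwa [Scheme.Opens.range_ι])
  infer_instance

/-- The rank is additive along a partition into opens. -/
theorem finrank_eq_sum {Z : Scheme.{u}} (k : Z ⟶ Spec (CommRingCat.of Ω)) [IsFinite k] {ι : Type u}
    [Fintype ι] (U : ι → Z.Opens) (hd : ∀ i j, i ≠ j → Disjoint (U i) (U j)) (hc : ⨆ i, U i = ⊤) :
    k.finrank default = ∑ i, ((U i).ι ≫ k).finrank default := by
  have := discreteTopology_of_isFinite k
  have hfin : ∀ i, IsFinite ((U i).ι ≫ k) := fun i => isFinite_opens_ι_comp k _ (isClosed_discrete _)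
  rw [finrank_eq_finrank_sections k]
  simp only [fun i => finrank_eq_finrank_sections ((U i).ι ≫ k)]
  let : Algebra Ω Γ(Z, ⊤) := (structHom k).hom.toAlgebra
  let : ∀ i, Algebra Ω Γ((U i).toScheme, ⊤) := fun i => (structHom ((U i).ι ≫ k)).hom.toAlgebra
  let r : Γ(Z, ⊤) →ₐ[Ω] ∀ i, Γ((U i).toScheme, ⊤) :=
    AlgHom.pi fun i =>
      { (U i).ι.appTop.hom with
        commutes' := fun c => by
          change (U i).ι.appTop ((structHom k) c) = structHom ((U i).ι ≫ k) c
          simp [structHom] }
  have : ∀ i, Module.Finite Ω Γ((U i).toScheme, ⊤) := fun i => finite_sections _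
  have hb : Function.Bijective r := by
    have hr : ∀ x i, r x i = (U i).topIso.inv (Z.presheaf.map (homOfLE le_top).op x) := fun x i => by
      change (U i).ι.appTop x = _
      simp only [Scheme.Hom.appTop, Scheme.Opens.topIso, Functor.mapIso_inv, Scheme.Opens.ι_app,
        eqToIso.inv, Iso.op_inv, ← ConcreteCategory.comp_apply, ← Functor.map_comp]
      rfl
    have hinj : ∀ i, Function.Injective (U i).topIso.inv := fun i =>
      (ConcreteCategory.bijective_of_isIso (U i).topIso.inv).1
    constructor
    · intro a b hab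
      refine Z.sheaf.eq_of_locally_eq' U ⊤ (fun i => homOfLE le_top) hc.ge a b fun i => hinj i ?_
      have := congrFun hab i
      rw [hr, hr] at this
      exact this
    · intro y
      have hcompat : TopCat.Presheaf.IsCompatible Z.sheaf.obj U fun i => (U i).topIso.hom (y i) := by
        intro i j
        rcases eq_or_ne i j with rfl | hij
        · rfl
        have hsub : Subsingleton Γ(Z, U i ⊓ U j) := by
          rw [disjoint_iff.1 (hd i j hij)]
          infer_instance
        exact @Subsingleton.elim _ hsub _ _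
      obtain ⟨s, hs, -⟩ := Z.sheaf.existsUnique_gluing' U ⊤ (fun i => homOfLE le_top) hc.ge _ hcompat
      refine ⟨s, funext fun i => ?_⟩
      rw [hr]
      refine (congrArg _ (hs i)).trans ?_
      exact congr($((U i).topIso.hom_inv_id) (y i))
  rw [(AlgEquiv.ofBijective r hb).toLinearEquiv.finrank_eq, Module.finrank_pi_fintype]

/-- The open point. -/
noncomputable def openPt {Z : Scheme.{u}} [DiscreteTopology Z] (z : Z) : Z.Opens :=
  ⟨{z}, isOpen_discrete _⟩

variable {X Y : Scheme.{u}} (f : X ⟶ Y) [IsFinite f] {η : Spec (CommRingCat.of Ω) ⟶ Y}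

instance isFinite_fibre_snd : IsFinite (pullback.snd f η) := MorphismProperty.pullback_snd _ _ inferInstance

/-- The point of the fibre given by a lift. -/
noncomputable def fibSec (ξ : FibrePts f η) : Spec (CommRingCat.of Ω) ⟶ pullback f η :=
  pullback.lift ξ.1 (𝟙 _) (ξ.2.trans (Category.id_comp η).symm)

/-- The multiplicity of a point of a geometric fibre. -/
noncomputable def mult (ξ : FibrePts f η) : ℕ :=
  haveI := discreteTopology_of_isFinite (pullback.snd f η)
  ((openPt (fibSec f ξ default)).ι ≫ pullback.snd f η).finrank default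

/-- The multiplicity from an open piece around the point in any model of the fibre. -/
theorem mult_eq (ξ : FibrePts f η) {Z P : Scheme.{u}} {a : P ⟶ X} {b : P ⟶ Spec (CommRingCat.of Ω)}
    (sq : IsPullback a b f η) (j : Z ⟶ P) [IsOpenImmersion j] (s : Spec (CommRingCat.of Ω) ⟶ P)
    (hsa : s ≫ a = ξ.1) (hsb : s ≫ b = 𝟙 _) (hr : Set.range j = {s default}) :
    mult f ξ = (j ≫ b).finrank default := by
  have := discreteTopology_of_isFinite (pullback.snd f η)
  let O := openPt (fibSec f ξ default)
  let e := sq.isoPullback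
  have hs : s ≫ e.hom = fibSec f ξ := by
    refine pullback.hom_ext ?_ ?_
    · rw [Category.assoc, sq.isoPullback_hom_fst, hsa]; exact (pullback.lift_fst _ _ _).symm
    · rw [Category.assoc, sq.isoPullback_hom_snd, hsb]; exact (pullback.lift_snd _ _ _).symm
  have hrange : Set.range (j ≫ e.hom) = Set.range O.ι := by
    rw [Scheme.Opens.range_ι, Scheme.Hom.comp_base, TopCat.coe_comp, Set.range_comp, hr,
      Set.image_singleton, ← Scheme.Hom.comp_apply, hs]
    rfl
  let i := IsOpenImmersion.isoOfRangeEq (j ≫ e.hom) O.ι hrange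
  have hi : i.hom ≫ O.ι ≫ pullback.snd f η = j ≫ b := by
    rw [IsOpenImmersion.isoOfRangeEq_hom_fac_assoc, Category.assoc, sq.isoPullback_hom_snd]
  have : IsFinite (O.ι ≫ pullback.snd f η) := isFinite_opens_ι_comp _ _ (isClosed_discrete _)
  rw [← hi, Scheme.Hom.finrank_comp_left_of_isIso]
  rfl

/-- Multiplicities of an open piece. -/
theorem mult_comp_openImmersion {X' : Scheme.{u}} (j : X' ⟶ X) [IsOpenImmersion j] [IsFinite (j ≫ f)]
    (ξ' : FibrePts (j ≫ f) η) :
    mult (j ≫ f) ξ' = mult f ⟨ξ'.1 ≫ j, (Category.assoc _ _ _).trans ξ'.2⟩ := by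
  have := discreteTopology_of_isFinite (pullback.snd (j ≫ f) η)
  let m : pullback (j ≫ f) η ⟶ pullback f η :=
    pullback.map (j ≫ f) η f η j (𝟙 _) (𝟙 _) (Category.comp_id _) (by simp)
  have : IsOpenImmersion m := inferInstance
  refine Eq.trans ?_ (mult_eq f ⟨ξ'.1 ≫ j, (Category.assoc _ _ _).trans ξ'.2⟩ (IsPullback.of_hasPullback f η)
    ((openPt (fibSec (j ≫ f) ξ' default)).ι ≫ m) (fibSec f _) (pullback.lift_fst _ _ _)
    (pullback.lift_snd _ _ _) ?_).symm
  · simp [mult, m, pullback.map]
  · rw [Scheme.Hom.comp_base, TopCat.coe_comp, Set.range_comp, Scheme.Opens.range_ι]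
    change m '' {fibSec (j ≫ f) ξ' default} = _
    rw [Set.image_singleton, ← Scheme.Hom.comp_apply]
    have hsec : fibSec (j ≫ f) ξ' ≫ m = fibSec f ⟨ξ'.1 ≫ j, (Category.assoc _ _ _).trans ξ'.2⟩ := by
      refine pullback.hom_ext ?_ ?_ <;> simp [m, fibSec, pullback.map]
    rw [hsec]

/-- Multiplicities are stable under base change. -/
theorem mult_baseChange {X' Y' : Scheme.{u}} {g : Y' ⟶ Y} {f' : X' ⟶ Y'} {g' : X' ⟶ X}
    (h : IsPullback g' f' f g) [IsFinite f'] {η' : Spec (CommRingCat.of Ω) ⟶ Y'} (ξ' : FibrePts f' η')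
    (hη : η' ≫ g = η) :
    mult f' ξ' = mult f ⟨ξ'.1 ≫ g', by rw [Category.assoc, h.w, reassoc_of% ξ'.2, hη]⟩ := by
  subst hη
  have := discreteTopology_of_isFinite (pullback.snd f' η')
  refine (mult_eq f (η := η' ≫ g) _ ((IsPullback.of_hasPullback f' η').paste_horiz h)
    (openPt (fibSec f' ξ' default)).ι (fibSec f' ξ') ?_ (pullback.lift_snd _ _ _) ?_).symm
  · simp [fibSec]
  · rw [Scheme.Opens.range_ι]; rfl

section AlgClosed

variable [IsAlgClosed Ω]

/-- The lifts of a geometric point are the points of the fibre. -/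
noncomputable def fibEquiv : FibrePts f η ≃ ↥(pullback f η) where
  toFun ξ := fibSec f ξ default
  invFun p :=
    haveI := discreteTopology_of_isFinite (pullback.snd f η)
    ⟨pointOfClosedPoint (pullback.snd f η) p (isClosed_discrete _) ≫ pullback.fst f η, by
      rw [Category.assoc, pullback.condition, pointOfClosedPoint_comp_assoc]⟩
  left_inv ξ := by
    have := discreteTopology_of_isFinite (pullback.snd f η)
    refine Subtype.ext ?_
    have h : pointOfClosedPoint (pullback.snd f η) (fibSec f ξ default) (isClosed_discrete _) = fibSec f ξ :=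
      ext_of_apply_closedPoint_eq (pullback.snd f η) (pointOfClosedPoint_comp _ _ _)
        (pullback.lift_snd _ _ _) (by
          rw [pointOfClosedPoint_apply]
          exact congrArg (fibSec f ξ) (Subsingleton.elim _ _))
    change _ ≫ pullback.fst f η = _
    rw [h]
    exact pullback.lift_fst _ _ _
  right_inv p := by
    have := discreteTopology_of_isFinite (pullback.snd f η)
    change fibSec f _ default = p
    have h : fibSec f (η := η) ⟨pointOfClosedPoint (pullback.snd f η) p (isClosed_discrete _) ≫
        pullback.fst f η, by rw [Category.assoc, pullback.condition, pointOfClosedPoint_comp_assoc]⟩ =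
        pointOfClosedPoint (pullback.snd f η) p (isClosed_discrete _) :=
      pullback.hom_ext (pullback.lift_fst _ _ _)
        ((pullback.lift_snd _ _ _).trans (pointOfClosedPoint_comp _ _ _).symm)
    rw [h, pointOfClosedPoint_apply]

theorem sum_mult [Flat f] [Fintype (FibrePts f η)] : ∑ ξ, mult f (η := η) ξ = f.finrank (η default) := by
  have := discreteTopology_of_isFinite (pullback.snd f η)
  rw [← Scheme.Hom.finrank_pullback_snd f η default,
    finrank_eq_sum (pullback.snd f η) (fun ξ => openPt (fibEquiv f ξ)) ?_ ?_]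
  · rfl
  · intro ξ ξ' hne
    rw [disjoint_iff]
    refine TopologicalSpace.Opens.ext (Set.singleton_inter_eq_empty.2 ?_)
    exact fun h => hne ((fibEquiv f).injective h)
  · refine eq_top_iff.2 fun p _ => TopologicalSpace.Opens.mem_iSup.2 ⟨(fibEquiv f).symm p, ?_⟩
    exact ((fibEquiv f).apply_symm_apply p).symm

end AlgClosed

end Groth.Agent.Et18.FlatTrace
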