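import Groth.Agent.Et18.FlatTrace.Local

/-!
# The trace along a finite flat morphism
-/

set_option autoImplicit false
set_option backward.isDefEq.respectTransparency.types false
set_option backward.isDefEq.respectTransparency false
set_option linter.unusedSectionVars false
set_option linter.unusedSimpArgs false

universe u

open CategoryTheory CategoryTheory.Limits AlgebraicGeometry Opposite
open Groth.Agent.Et18.H0Lift

namespace Groth.Agent.Et18.FlatTrace

variable {X S : Scheme.{u}} (f : X ⟶ S) [IsFinite f] [Flat f] [LocallyOfFinitePresentation f]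

theorem exists_tr (F : EtCoh.Ab S) (V : S.Etale)
    (σ : EtCoh.sect ((EtCoh.pull f).obj F) ((EtCoh.bc f).obj V)) : ∃ τ, IsTr f F V σ τ := by
  let G := (EtCoh.pull f).obj F
  let P := (EtCoh.push f).obj G
  let ηy : ∀ y : V.left, Spec (CommRingCat.of (AlgebraicClosure (V.left.residueField y))) ⟶ S :=
    fun y => algPoint V.left y ≫ V.hom
  choose V' a v' τ hv hτ using fun y : V.left =>
    exists_local_tr f (ηy y) F V σ (Over.homMk (algPoint V.left y) rfl)
  have hcov : Sieve.generate (Presieve.ofArrows _ a) ∈ S.smallEtaleTopology V := by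
    change Sieve.ofArrows _ _ ∈ _
    rw [Scheme.ofArrows_mem_smallEtaleTopology_iff, Set.eq_univ_iff_forall]
    intro y
    refine Set.mem_iUnion.2 ⟨y, ?_⟩
    let vl : Spec (CommRingCat.of (AlgebraicClosure (V.left.residueField y))) ⟶ (V' y).left := (v' y).left
    refine ⟨vl default, ?_⟩
    have h : vl ≫ (a y).left = algPoint V.left y := congrArg CommaMorphism.left (hv y)
    rw [← Scheme.Hom.comp_apply, h, algPoint_default]
  have hsheaf : Presieve.IsSheaf S.smallEtaleTopology (F.obj ⋙ forget _) :=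
    (CategoryTheory.isSheaf_iff_isSheaf_of_type _ _).1
      ((sheafCompose S.smallEtaleTopology (forget AddCommGrpCat.{u + 1})).obj F).property
  have hfor : (Presieve.ofArrows _ a).IsSheafFor (F.obj ⋙ forget _) := by
    rw [Presieve.isSheafFor_iff_generate]; exact hsheaf _ hcov
  have hres : ∀ {y : V.left} {U : S.Etale} (g : U ⟶ V' y) ⦃K : Type u⦄ [Field K] [IsAlgClosed K]
      (ν : Spec (CommRingCat.of K) ⟶ S) (w : (Scheme.pointSmallEtale ν).fiber.obj U),
      gm F ν U w (F.obj.map g.op (τ y)) = trStalk f ν F (gm P ν V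
        ((Scheme.pointSmallEtale ν).fiber.map (g ≫ a y) w) σ) := fun {y U} g K _ _ ν w => by
    refine (gm_map F ν g w _).trans ((hτ y ν _).trans (congrArg _ ?_))
    refine (gm_map P ν (a y) _ σ).trans ?_
    rw [← Functor.map_comp_apply]
  obtain ⟨T, hT, -⟩ := (Presieve.isSheafFor_arrows_iff _ _).mp hfor τ fun i j W gi gj hw => by
    refine sub_eq_zero.1 (eq_zero_of_germs F W (F.obj.map gi.op (τ i) - F.obj.map gj.op (τ j))
      fun w v _ => ?_)
    rw [gm, map_sub]
    refine sub_eq_zero.2 ((hres gi _ v).trans ?_)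
    rw [hw]
    exact (hres gj _ v).symm
  refine ⟨T, fun K _ _ ν v => ?_⟩
  obtain ⟨U, g, ⟨y⟩, w, hw⟩ := (Scheme.pointSmallEtale ν).jointly_surjective _ hcov v |> fun
    ⟨U, g, ⟨Z, b, k, hk, e⟩, w, hw⟩ => (⟨Z, k, hk,
      (Scheme.pointSmallEtale ν).fiber.map b w, by rw [← Functor.map_comp_apply, e]; exact hw⟩ :
        ∃ (U : S.Etale) (g : U ⟶ V) (_ : Presieve.ofArrows _ a g)
          (w : (Scheme.pointSmallEtale ν).fiber.obj U), (Scheme.pointSmallEtale ν).fiber.map g w = v)
  rw [← hw, ← gm_map F ν (a y) w T]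
  refine Eq.trans ?_ (congrArg (trStalk f ν F) (gm_map P ν (a y) w σ))
  rw [show F.obj.map (a y).op T = τ y from hT y]
  exact hτ y ν w

/-- The trace on sections. -/
noncomputable def trSect (F : EtCoh.Ab S) (V : S.Etale)
    (σ : EtCoh.sect ((EtCoh.pull f).obj F) ((EtCoh.bc f).obj V)) : EtCoh.sect F V :=
  (exists_tr f F V σ).choose

theorem isTr_trSect (F : EtCoh.Ab S) (V : S.Etale)
    (σ : EtCoh.sect ((EtCoh.pull f).obj F) ((EtCoh.bc f).obj V)) : IsTr f F V σ (trSect f F V σ) :=
  (exists_tr f F V σ).choose_spec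

/-- The trace of a sheaf. -/
noncomputable def trApp (F : EtCoh.Ab S) : (EtCoh.push f).obj ((EtCoh.pull f).obj F) ⟶ F :=
  ⟨{ app := fun V => AddCommGrpCat.ofHom (AddMonoidHom.mk' (trSect f F V.unop) fun σ σ' =>
        IsTr.unique f F (isTr_trSect f F _ _) fun K _ _ ν v => by
          refine (map_add _ _ _).trans ?_
          refine (congrArg₂ (· + ·) (isTr_trSect f F V.unop σ ν v) (isTr_trSect f F V.unop σ' ν v)).trans ?_
          refine (map_add _ _ _).symm.trans ?_
          exact congrArg _ (map_add _ _ _).symm)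
     naturality := fun U V g => by
      refine AddCommGrpCat.hom_ext (AddMonoidHom.ext fun σ => ?_)
      refine IsTr.unique f F (isTr_trSect f F V.unop _) fun K _ _ ν v => ?_
      refine (gm_map F ν g.unop v _).trans ((isTr_trSect f F U.unop σ ν _).trans (congrArg _ ?_))
      exact (gm_map ((EtCoh.push f).obj ((EtCoh.pull f).obj F)) ν g.unop v σ).symm }⟩

theorem stalk_map_trApp (F : EtCoh.Ab S) ⦃K : Type u⦄ [Field K] [IsAlgClosed K]
    (ν : Spec (CommRingCat.of K) ⟶ S)
    (x : (EtCoh.stalk ν).obj ((EtCoh.push f).obj ((EtCoh.pull f).obj F))) :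
    (EtCoh.stalk ν).map (trApp f F) x = trStalk f ν F x := by
  obtain ⟨V, v, σ, rfl⟩ := (Scheme.pointSmallEtale ν).toPresheafFiber_jointly_surjective
    (P := ((EtCoh.push f).obj ((EtCoh.pull f).obj F)).obj) x
  exact (gm_hom (trApp f F) ν V v σ).trans (isTr_trSect f F V σ ν v)

/-- Morphisms into a sheaf are detected on the geometric stalks. -/
theorem hom_ext_stalks {A B : EtCoh.Ab S} (a b : A ⟶ B)
    (h : ∀ ⦃K : Type u⦄ [Field K] [IsAlgClosed K] (ν : Spec (CommRingCat.of K) ⟶ S)
      (x : (EtCoh.stalk ν).obj A), (EtCoh.stalk ν).map a x = (EtCoh.stalk ν).map b x) : a = b := by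
  refine ObjectProperty.hom_ext _ (NatTrans.ext (funext fun V => ?_))
  refine AddCommGrpCat.hom_ext (AddMonoidHom.ext fun s => ?_)
  refine sub_eq_zero.1 (eq_zero_of_germs B V.unop (a.hom.app V s - b.hom.app V s) fun w v _ => ?_)
  refine (map_sub _ _ _).trans (sub_eq_zero.2 ?_)
  exact (gm_hom a _ V.unop v s).symm.trans ((h _ _).trans (gm_hom b _ V.unop v s))

theorem toPull_cmp' (F : EtCoh.Ab S) {Ω : Type u} [Field Ω] [IsSepClosed Ω]
    {η : Spec (CommRingCat.of Ω) ⟶ S} (ξ : FibrePts f η)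
    (x : (EtCoh.stalk η).obj ((EtCoh.push f).obj ((EtCoh.pull f).obj F))) :
    toPull f η ξ F (cmp f η F ξ x) =
      (fibreNat f η AddCommGrpCat.{u + 1} ξ).app ((EtCoh.pull f).obj F) x := by
  have := isIso_toPull f η ξ F
  exact ConcreteCategory.congr_hom (IsIso.inv_hom_id (toPull f η ξ F)) _

theorem cmp_natural {F G : EtCoh.Ab S} (φ : F ⟶ G) {Ω : Type u} [Field Ω] [IsSepClosed Ω]
    {η : Spec (CommRingCat.of Ω) ⟶ S} (ξ : FibrePts f η)
    (x : (EtCoh.stalk η).obj ((EtCoh.push f).obj ((EtCoh.pull f).obj F))) :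
    cmp f η G ξ ((EtCoh.stalk η).map ((EtCoh.push f).map ((EtCoh.pull f).map φ)) x) =
      (EtCoh.stalk η).map φ (cmp f η F ξ x) := by
  obtain ⟨V, v, σ, rfl⟩ := (Scheme.pointSmallEtale η).toPresheafFiber_jointly_surjective
    (P := ((EtCoh.push f).obj ((EtCoh.pull f).obj F)).obj) x
  obtain ⟨U, u, t, ht⟩ := (Scheme.pointSmallEtale η).toPresheafFiber_jointly_surjective
    (P := F.obj) (cmp f η F ξ (gm ((EtCoh.push f).obj ((EtCoh.pull f).obj F)) η V v σ))
  refine (bijective_toPull f ξ G).1 ?_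
  refine Eq.trans (congrArg (fun z => toPull f η ξ G (cmp f η G ξ z))
    (gm_hom ((EtCoh.push f).map ((EtCoh.pull f).map φ)) η V v σ)) ?_
  refine (toPull_cmp f η G ξ V v _).trans ?_
  refine (gm_hom ((EtCoh.pull f).map φ) ξ.1 _ _ σ).symm.trans ?_
  rw [← toPull_cmp f η F ξ V v σ, ← ht, ← gm, ← gm_unit f ξ F U u t]
  refine (gm_hom ((EtCoh.pull f).map φ) ξ.1 _ _ _).trans ?_
  refine Eq.trans ?_ ((congrArg (toPull f η ξ G) (gm_hom φ η U u t)).trans rfl).symm
  rw [← gm_unit f ξ G U u (φ.hom.app (op U) t)]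
  refine congrArg (gm _ ξ.1 _ _) ?_
  exact ConcreteCategory.congr_hom
    (congrArg (fun k => k.hom.app (op U)) ((EtCoh.pullPushAdj f).unit.naturality φ).symm) t

/-- The trace. -/
noncomputable def trace : EtCoh.pull f ⋙ EtCoh.push f ⟶ 𝟭 (EtCoh.Ab S) where
  app F := trApp f F
  naturality F G φ := hom_ext_stalks _ _ fun K _ _ ν x => by
    simp only [Functor.comp_map, Functor.id_map, Functor.map_comp, ConcreteCategory.comp_apply]
    refine (stalk_map_trApp f G ν _).trans ?_
    refine Eq.trans ?_ (congrArg _ (stalk_map_trApp f F ν x).symm)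
    simp only [trStalk, AddMonoidHom.coe_finsetSum, Finset.sum_apply, map_sum]
    refine Finset.sum_congr rfl fun ξ _ => ?_
    refine (congrArg (mult f ξ • ·) (cmp_natural f φ ξ x)).trans ?_
    exact (map_nsmul _ _ _).symm

theorem cmp_unit (F : EtCoh.Ab S) {Ω : Type u} [Field Ω] [IsSepClosed Ω]
    {η : Spec (CommRingCat.of Ω) ⟶ S} (ξ : FibrePts f η) (x : (EtCoh.stalk η).obj F) :
    cmp f η F ξ ((EtCoh.stalk η).map ((EtCoh.pullPushAdj f).unit.app F) x) = x := by
  refine (bijective_toPull f ξ F).1 ((toPull_cmp' f F ξ _).trans ?_)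
  exact (ConcreteCategory.comp_apply _ _ x).symm

theorem unit_trace (n : ℕ) (hn : ∀ s : S, f.finrank s = n) (F : EtCoh.Ab S) :
    (EtCoh.pullPushAdj f).unit.app F ≫ (trace f).app F = n • 𝟙 F := hom_ext_stalks _ _ fun K _ _ ν x => by
  have : (EtCoh.stalk ν).Additive := Functor.additive_of_preserves_binary_products _
  rw [Functor.map_comp, ConcreteCategory.comp_apply, Functor.map_nsmul]
  refine Eq.trans ?_ (congrArg (fun k : (EtCoh.stalk ν).obj F ⟶ (EtCoh.stalk ν).obj F => (n • k) x)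
    ((EtCoh.stalk ν).map_id F).symm)
  refine (stalk_map_trApp f F ν _).trans ?_
  simp only [trStalk, AddMonoidHom.coe_finsetSum, Finset.sum_apply]
  refine (Finset.sum_congr rfl fun ξ _ => (congrArg (mult f ξ • ·) (cmp_unit f F ξ x) : _ = mult f ξ • x)).trans ?_
  rw [← Finset.sum_smul, sum_mult, hn]
  rfl

end Groth.Agent.Et18.FlatTrace
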