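import Groth.Agent.Et18.FlatTrace.Axioms

/-!
# Uniqueness of the trace
-/

set_option autoImplicit false
set_option backward.isDefEq.respectTransparency.types false
set_option backward.isDefEq.respectTransparency false
set_option linter.unusedSectionVars false
set_option linter.unusedSimpArgs false

universe u

open CategoryTheory CategoryTheory.Limits AlgebraicGeometry Opposite
open Groth.Agent.Et18.H0Lift

namespace Groth.Agent.Et18.FlatTrace

/-- A family of candidate traces. -/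
abbrev TrFamily := ∀ ⦃X S : Scheme.{u}⦄ (f : X ⟶ S) [IsFinite f] [Flat f] [LocallyOfFinitePresentation f],
  EtCoh.pull f ⋙ EtCoh.push f ⟶ 𝟭 (EtCoh.Ab S)

variable {X S : Scheme.{u}}

theorem cmp_ext (f : X ⟶ S) [IsFinite f] [Flat f] [LocallyOfFinitePresentation f] (F : EtCoh.Ab S) ⦃K : Type u⦄
    [Field K] [IsAlgClosed K] (η : Spec (CommRingCat.of K) ⟶ S)
    (x y : (EtCoh.stalk η).obj ((EtCoh.push f).obj ((EtCoh.pull f).obj F)))
    (h : ∀ ξ, cmp f η F ξ x = cmp f η F ξ y) : x = y := by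
  refine (fibreNat_bijective f η AddCommGrpCat.{u + 1} ((EtCoh.pull f).obj F)).1 (funext fun ξ => ?_)
  exact (toPull_cmp' f F ξ x).symm.trans ((congrArg _ (h ξ)).trans (toPull_cmp' f F ξ y))

variable (Tr : TrFamily.{u})

/-- Agreement with the trace at the point of a geometric point. -/
def AgreeAt {X : Scheme.{u}} {K : Type u} [Field K] [IsAlgClosed K] (f : X ⟶ Spec (CommRingCat.of K))
    [IsFinite f] [Flat f] [LocallyOfFinitePresentation f] : Prop :=
  ∀ (G : EtCoh.Ab (Spec (CommRingCat.of K))) (y : (EtCoh.stalk (𝟙 (Spec (CommRingCat.of K)))).obj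
      ((EtCoh.push f).obj ((EtCoh.pull f).obj G))),
    (EtCoh.stalk (𝟙 (Spec (CommRingCat.of K)))).map ((Tr f).app G) y =
      (EtCoh.stalk (𝟙 (Spec (CommRingCat.of K)))).map ((trace f).app G) y

variable {Tr}

theorem agreeAt_of_subsingleton
    (h4 : ∀ ⦃X S : Scheme.{u}⦄ (f : X ⟶ S) [IsFinite f] [Flat f] [LocallyOfFinitePresentation f] (n : ℕ)
      (_ : ∀ s : S, f.finrank s = n) (F : EtCoh.Ab S),
      (EtCoh.pullPushAdj f).unit.app F ≫ (Tr f).app F = n • 𝟙 F)
    {X : Scheme.{u}} {K : Type u} [Field K] [IsAlgClosed K] (f : X ⟶ Spec (CommRingCat.of K))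
    [IsFinite f] [Flat f] [LocallyOfFinitePresentation f]
    (hs : Subsingleton (FibrePts f (𝟙 (Spec (CommRingCat.of K))))) : AgreeAt Tr f := by
  intro G y
  classical
  let p := 𝟙 (Spec (CommRingCat.of K))
  obtain ⟨c, hc⟩ : ∃ c, y = (EtCoh.stalk p).map ((EtCoh.pullPushAdj f).unit.app G) c := by
    by_cases he : Nonempty (FibrePts f p)
    · obtain ⟨ξ⟩ := he
      refine ⟨cmp f p G ξ y, cmp_ext f G p _ _ fun ξ' => ?_⟩
      rw [Subsingleton.elim ξ' ξ]
      exact (cmp_unit f G ξ _).symm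
    · exact ⟨0, cmp_ext f G p _ _ fun ξ' => absurd ⟨ξ'⟩ he⟩
  have hn : ∀ s, f.finrank s = f.finrank default := fun s => congrArg _ (Subsingleton.elim _ _)
  rw [hc]
  refine (ConcreteCategory.congr_hom ((EtCoh.stalk p).map_comp _ _) c).symm.trans
    (Eq.trans ?_ (ConcreteCategory.congr_hom ((EtCoh.stalk p).map_comp _ _) c))
  rw [h4 f _ hn G, unit_trace f _ hn G]

theorem agree_of_baseChange
    (h2 : ∀ ⦃X S X' S' : Scheme.{u}⦄ (f : X ⟶ S) (g : S' ⟶ S) (f' : X' ⟶ S') (g' : X' ⟶ X)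
      (hc : IsPullback g' f' f g) [IsFinite f] [Flat f] [LocallyOfFinitePresentation f]
      [IsFinite f'] [Flat f'] [LocallyOfFinitePresentation f'] (F : EtCoh.Ab S),
      EtCoh.baseChange0 f g f' g' hc.w ((EtCoh.pull f).obj F) ≫
        (EtCoh.push f').map ((EtCore.pullComp g' f).inv.app F ≫ (EtCore.pullCongr hc.w).hom.app F ≫
          (EtCore.pullComp f' g).hom.app F) ≫ (Tr f').app ((EtCoh.pull g).obj F) =
        (EtCoh.pull g).map ((Tr f).app F))
    (f : X ⟶ S) [IsFinite f] [Flat f] [LocallyOfFinitePresentation f]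
    (h : ∀ ⦃K : Type u⦄ [Field K] [IsAlgClosed K] (ν : Spec (CommRingCat.of K) ⟶ S)
      [IsFinite (pullback.snd f ν)] [Flat (pullback.snd f ν)]
      [LocallyOfFinitePresentation (pullback.snd f ν)], AgreeAt Tr (pullback.snd f ν))
    (F : EtCoh.Ab S) : (Tr f).app F = (trace f).app F := by
  refine hom_ext_stalks _ _ fun K _ _ ν x => ?_
  have : IsFinite (pullback.snd f ν) := MorphismProperty.pullback_snd _ _ inferInstance
  have : Flat (pullback.snd f ν) := MorphismProperty.pullback_snd _ _ inferInstance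
  have : LocallyOfFinitePresentation (pullback.snd f ν) := MorphismProperty.pullback_snd _ _ inferInstance
  have sq := IsPullback.of_hasPullback f ν
  let ξ : FibrePts ν ν := ⟨𝟙 _, Category.id_comp _⟩
  refine (bijective_toPull ν ξ F).1 ?_
  refine (stalk_pull_map ν ((Tr f).app F) ξ rfl x).symm.trans (Eq.trans ?_ (stalk_pull_map ν ((trace f).app F) ξ rfl x))
  rw [← h2 f ν _ _ sq F, ← trace_baseChange f ν _ _ sq F]
  simp only [Functor.map_comp, ConcreteCategory.comp_apply]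
  exact h ν _ _

theorem finrank_openImmersion (j : X ⟶ S) [IsOpenImmersion j] [IsFinite j] (x : X) :
    j.finrank (j x) = 1 := by
  have sq : IsPullback (𝟙 X) (𝟙 X) j j :=
    IsPullback.of_isLimit' ⟨rfl⟩ (PullbackCone.IsLimit.mk _ (fun s => s.fst) (fun s => Category.comp_id _)
      (fun s => ((Category.comp_id _).trans ((cancel_mono j).1 s.condition)))
      (fun s m h₁ _ => by simpa using h₁))
  rw [← Scheme.Hom.finrank_of_isPullback _ _ j j sq x, Scheme.Hom.finrank_eq_one_of_isIso]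
  rfl

theorem eq_trace
    (h2 : ∀ ⦃X S X' S' : Scheme.{u}⦄ (f : X ⟶ S) (g : S' ⟶ S) (f' : X' ⟶ S') (g' : X' ⟶ X)
      (hc : IsPullback g' f' f g) [IsFinite f] [Flat f] [LocallyOfFinitePresentation f]
      [IsFinite f'] [Flat f'] [LocallyOfFinitePresentation f'] (F : EtCoh.Ab S),
      EtCoh.baseChange0 f g f' g' hc.w ((EtCoh.pull f).obj F) ≫
        (EtCoh.push f').map ((EtCore.pullComp g' f).inv.app F ≫ (EtCore.pullCongr hc.w).hom.app F ≫
          (EtCore.pullComp f' g).hom.app F) ≫ (Tr f').app ((EtCoh.pull g).obj F) =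
        (EtCoh.pull g).map ((Tr f).app F))
    (h3 : ∀ ⦃X Y S : Scheme.{u}⦄ (h : X ⟶ Y) (g : Y ⟶ S)
      [IsFinite h] [Flat h] [LocallyOfFinitePresentation h]
      [IsFinite g] [Flat g] [LocallyOfFinitePresentation g]
      [IsFinite (h ≫ g)] [Flat (h ≫ g)] [LocallyOfFinitePresentation (h ≫ g)] (F : EtCoh.Ab S),
      (Tr (h ≫ g)).app F =
        (EtCoh.push (h ≫ g)).map ((EtCore.pullComp h g).hom.app F) ≫
          (EtCoh.pushComp g h).inv.app ((EtCoh.pull h).obj ((EtCoh.pull g).obj F)) ≫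
          (EtCoh.push g).map ((Tr h).app ((EtCoh.pull g).obj F)) ≫ (Tr g).app F)
    (h4 : ∀ ⦃X S : Scheme.{u}⦄ (f : X ⟶ S) [IsFinite f] [Flat f] [LocallyOfFinitePresentation f] (n : ℕ)
      (_ : ∀ s : S, f.finrank s = n) (F : EtCoh.Ab S),
      (EtCoh.pullPushAdj f).unit.app F ≫ (Tr f).app F = n • 𝟙 F)
    (f : X ⟶ S) [IsFinite f] [Flat f] [LocallyOfFinitePresentation f] : Tr f = trace f := by
  classical
  refine NatTrans.ext (funext fun F => agree_of_baseChange h2 f (fun K _ _ ν _ _ _ => ?_) F)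
  let Z := pullback f ν
  let k : Z ⟶ Spec (CommRingCat.of K) := pullback.snd f ν
  intro G y
  let p := 𝟙 (Spec (CommRingCat.of K))
  have := discreteTopology_of_isFinite k
  let ι : FibrePts k p → Z.Opens := fun ξ => openPt (ξ.1 default)
  have hcl : ∀ ξ, IsClosedImmersion (ι ξ).ι := fun ξ =>
    IsClosedImmersion.of_isPreimmersion _ (isClosed_discrete _)
  have hpt : ∀ ξ ξ' : FibrePts k p, ξ.1 default = ξ'.1 default → ξ = ξ' := fun ξ ξ' h =>
    Subtype.ext (ext_of_apply_closedPoint_eq k ξ.2 ξ'.2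
      ((congrArg ξ.1 (Subsingleton.elim _ _)).trans (h.trans (congrArg ξ'.1 (Subsingleton.elim _ _)))))
  let A : ∀ ξ, (EtCoh.push ((ι ξ).ι ≫ k)).obj ((EtCoh.pull ((ι ξ).ι ≫ k)).obj G) ⟶
      (EtCoh.push k).obj ((EtCoh.pull k).obj G) := fun ξ =>
    (EtCoh.push ((ι ξ).ι ≫ k)).map ((EtCore.pullComp (ι ξ).ι k).hom.app G) ≫
      (EtCoh.pushComp k (ι ξ).ι).inv.app ((EtCoh.pull (ι ξ).ι).obj ((EtCoh.pull k).obj G)) ≫
      (EtCoh.push k).map ((trace (ι ξ).ι).app ((EtCoh.pull k).obj G))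
  let c := fun ξ => cmp k p G ξ y
  let z := fun ξ => (EtCoh.stalk p).map (A ξ)
    ((EtCoh.stalk p).map ((EtCoh.pullPushAdj ((ι ξ).ι ≫ k)).unit.app G) (c ξ))
  have hy : y = ∑ ξ, z ξ := cmp_ext k G p _ _ fun ξ₁ => by
    rw [map_sum, Finset.sum_eq_single ξ₁]
    · refine Eq.symm ((cmp_compMap (ι ξ₁).ι k G p ξ₁ _).trans ?_)
      refine (Finset.sum_congr rfl fun ξ₂ _ =>
        (congrArg (fun w : (EtCoh.stalk p).obj G => mult (ι ξ₁).ι ξ₂ • w)
          (cmp_unit ((ι ξ₁).ι ≫ k) G (fibSigma (ι ξ₁).ι k p ⟨ξ₁, ξ₂⟩) (c ξ₁)))).trans ?_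
      rw [← Finset.sum_smul, sum_mult]
      have h1 : (ι ξ₁).ι.finrank (ξ₁.1 default) = 1 :=
        finrank_openImmersion (ι ξ₁).ι ⟨ξ₁.1 default, rfl⟩
      rw [h1, one_smul]
    · intro ξ _ hne
      refine (cmp_compMap (ι ξ).ι k G p ξ₁ _).trans ?_
      have : IsEmpty (FibrePts (ι ξ).ι ξ₁.1) := ⟨fun ξ₂ => hne (hpt ξ ξ₁ (by
        rw [← ξ₂.2, Scheme.Hom.comp_apply]
        exact (ξ₂.1 default).2.symm))⟩
      exact Fintype.sum_empty _
    · exact fun h => absurd (Finset.mem_univ _) h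
  rw [hy, map_sum, map_sum]
  refine Finset.sum_congr rfl fun ξ _ => ?_
  have hι : (Tr (ι ξ).ι).app ((EtCoh.pull k).obj G) = (trace (ι ξ).ι).app ((EtCoh.pull k).obj G) :=
    agree_of_baseChange h2 (ι ξ).ι (fun K' _ _ ν' _ _ _ => agreeAt_of_subsingleton h4 _
      ⟨fun a b => Subtype.ext ((cancel_mono (pullback.snd (ι ξ).ι ν')).1 (a.2.trans b.2.symm))⟩) _
  have hsub : Subsingleton (FibrePts ((ι ξ).ι ≫ k) p) := ⟨fun a b => by
    refine Subtype.ext ((cancel_mono (ι ξ).ι).1 (ext_of_apply_closedPoint_eq k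
      ((Category.assoc _ _ _).trans a.2) ((Category.assoc _ _ _).trans b.2) ?_))
    rw [Scheme.Hom.comp_apply, Scheme.Hom.comp_apply]
    exact (a.1 _).2.trans (b.1 _).2.symm⟩
  have e1 : (Tr ((ι ξ).ι ≫ k)).app G = A ξ ≫ (Tr k).app G := by
    rw [h3 (ι ξ).ι k G, hι]
    simp only [A, Category.assoc]
  have e2 : (trace ((ι ξ).ι ≫ k)).app G = A ξ ≫ (trace k).app G := trace_comp (ι ξ).ι k G
  refine (ConcreteCategory.congr_hom ((EtCoh.stalk p).map_comp _ _) _).symm.trans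
    (Eq.trans ?_ (ConcreteCategory.congr_hom ((EtCoh.stalk p).map_comp _ _) _))
  rw [← e1, ← e2]
  exact agreeAt_of_subsingleton h4 _ hsub G _

end Groth.Agent.Et18.FlatTrace
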